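import Mathlib

/-!
A strengthening of Bertrand's postulate: for `m ≥ 17` there are primes `m / 2 < p`,
`p + 3 ≤ q ≤ m`.
-/

set_option autoImplicit false

namespace Cfsg.Agent.NT.TwoPrimes

open Nat

theorem succ_pow_seven_le {s : ℕ} (hs : 40 ≤ s) : (s + 1) ^ 7 ≤ 2 ^ s := by
  induction s, hs using Nat.le_induction with
  | base => norm_num
  | succ s hs ih =>
    have h1 : 10 * (s + 1 + 1) ≤ 11 * (s + 1) := by omega
    have h2 := Nat.pow_le_pow_left h1 7
    rw [mul_pow, mul_pow] at h2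
    rw [pow_succ 2]
    omega

theorem main_ineq {n : ℕ} (hn : 800 ≤ n) :
    n * ((2 * n) ^ 3 * ((2 * n) ^ sqrt (2 * n) * 4 ^ (2 * n / 3))) ≤ 4 ^ n := by
  set s := sqrt (2 * n) with hs
  have h1 : s * s ≤ 2 * n := Nat.sqrt_le _
  have h2 : 2 * n < (s + 1) * (s + 1) := Nat.lt_succ_sqrt _
  have h3 : 40 ≤ s := by
    rw [hs, Nat.le_sqrt]; omega
  have h4 : n * ((2 * n) ^ 3 * (2 * n) ^ s) ≤ ((s + 1) * (s + 1)) ^ (s + 4) := by
    calc n * ((2 * n) ^ 3 * (2 * n) ^ s) ≤ (2 * n) * ((2 * n) ^ 3 * (2 * n) ^ s) :=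
          Nat.mul_le_mul_right _ (by omega)
      _ = (2 * n) ^ (s + 4) := by ring
      _ ≤ _ := Nat.pow_le_pow_left h2.le _
  have h5 : (((s + 1) * (s + 1)) ^ (s + 4)) ^ 3 ≤ 4 ^ n := by
    calc (((s + 1) * (s + 1)) ^ (s + 4)) ^ 3 = (s + 1) ^ (6 * s + 24) := by
          rw [← sq, ← pow_mul, ← pow_mul]; congr 1; ring
      _ ≤ (s + 1) ^ (7 * s) := Nat.pow_le_pow_right (by omega) (by omega)
      _ = ((s + 1) ^ 7) ^ s := by rw [pow_mul]
      _ ≤ (2 ^ s) ^ s := Nat.pow_le_pow_left (succ_pow_seven_le h3) _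
      _ = 2 ^ (s * s) := by rw [pow_mul]
      _ ≤ 2 ^ (2 * n) := Nat.pow_le_pow_right (by norm_num) h1
      _ = 4 ^ n := by rw [pow_mul]; norm_num
  rw [← Nat.pow_le_pow_iff_left (n := 3) (by norm_num)]
  calc (n * ((2 * n) ^ 3 * ((2 * n) ^ s * 4 ^ (2 * n / 3)))) ^ 3
      = (n * ((2 * n) ^ 3 * (2 * n) ^ s)) ^ 3 * 4 ^ (3 * (2 * n / 3)) := by ring
    _ ≤ 4 ^ n * 4 ^ (2 * n) := Nat.mul_le_mul ((Nat.pow_le_pow_left h4 3).trans h5)
        (Nat.pow_le_pow_right (by norm_num) (by omega))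
    _ = (4 ^ n) ^ 3 := by ring

theorem centralBinom_le (n : ℕ) (n_large : 2 < n) (T : Finset ℕ)
    (hT : ∀ p : ℕ, p.Prime → n < p → p ≤ 2 * n → p ∈ T) :
    centralBinom n ≤ (2 * n) ^ T.card * ((2 * n) ^ sqrt (2 * n) * 4 ^ (2 * n / 3)) := by
  have n_pos : 0 < n := (Nat.zero_le _).trans_lt n_large
  have n2_pos : 1 ≤ 2 * n := mul_pos (zero_lt_two' ℕ) n_pos
  let S := {p ∈ Finset.range (2 * n / 3 + 1) | Nat.Prime p}
  let f x := x ^ n.centralBinom.factorization x
  have hf : ∀ p, f p ≤ 2 * n := fun p => pow_factorization_choose_le (mul_pos two_pos n_pos)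
  have hf1 : ∀ p, 1 ≤ f p := fun p => by
    by_cases hp : p.Prime
    · exact Nat.one_le_pow _ _ hp.pos
    · simp only [f]; rw [factorization_eq_zero_of_not_prime _ hp, _root_.pow_zero]
  have h1 : centralBinom n ≤ ∏ x ∈ T ∪ S, f x := by
    rw [← n.prod_pow_factorization_centralBinom,
      ← Finset.prod_filter_of_ne (p := fun x => x ∈ T ∪ S)]
    · exact Finset.prod_le_prod_of_subset_of_one_le' (fun x hx => (Finset.mem_filter.1 hx).2)
        fun p _ _ => hf1 p
    intro x hx h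
    rw [Finset.mem_range, Nat.lt_succ_iff] at hx
    have hp : x.Prime := by
      by_contra hp
      exact h (by rw [factorization_eq_zero_of_not_prime _ hp, _root_.pow_zero])
    by_cases h1 : n < x
    · exact Finset.mem_union_left _ (hT x hp h1 hx)
    refine Finset.mem_union_right _ (Finset.mem_filter.2 ⟨Finset.mem_range.2 ?_, hp⟩)
    by_contra h2
    exact h (by rw [factorization_centralBinom_of_two_mul_self_lt_three_mul n_large
      (not_lt.1 h1) (by omega), Nat.pow_zero])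
  refine h1.trans ?_
  refine (Nat.le_mul_of_pos_right _ (Finset.prod_pos fun p _ => hf1 p)).trans
    ((Finset.prod_union_inter (s₁ := T) (s₂ := S) (f := f)).le.trans ?_)
  apply mul_le_mul'
  · exact (Finset.prod_le_prod' fun p _ => hf p).trans (by rw [Finset.prod_const])
  rw [← Finset.prod_filter_mul_prod_filter_not S (· ≤ sqrt (2 * n))]
  apply mul_le_mul'
  · refine (Finset.prod_le_prod' fun p _ => hf p).trans ?_
    have : (Finset.Icc 1 (sqrt (2 * n))).card = sqrt (2 * n) := by rw [card_Icc, Nat.add_sub_cancel]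
    rw [Finset.prod_const]
    refine pow_right_mono₀ n2_pos ((Finset.card_le_card fun x hx => ?_).trans this.le)
    obtain ⟨h1, h2⟩ := Finset.mem_filter.1 hx
    exact Finset.mem_Icc.mpr ⟨(Finset.mem_filter.1 h1).2.one_lt.le, h2⟩
  · refine le_trans ?_ (primorial_le_four_pow (2 * n / 3))
    refine (Finset.prod_le_prod' fun p hp => (?_ : f p ≤ p)).trans ?_
    · obtain ⟨h1, h2⟩ := Finset.mem_filter.1 hp
      refine (pow_right_mono₀ (Finset.mem_filter.1 h1).2.one_lt.le ?_).trans (pow_one p).le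
      exact Nat.factorization_choose_le_one (sqrt_lt'.mp <| not_le.1 h2)
    refine Finset.prod_le_prod_of_subset_of_one_le' (Finset.filter_subset _ _) ?_
    exact fun p hp _ => (Finset.mem_filter.1 hp).2.one_lt.le

theorem exists_primes_large {n : ℕ} (hn : 800 ≤ n) :
    ∃ p q : ℕ, p.Prime ∧ q.Prime ∧ n < p ∧ p + 3 ≤ q ∧ q ≤ 2 * n := by
  classical
  by_contra h
  push Not at h
  have hex := Nat.exists_prime_lt_and_le_two_mul n (by omega)
  let p := Nat.find hex
  have hp := Nat.find_spec hex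
  have h1 := centralBinom_le n (by omega) (Finset.Icc p (p + 2)) (fun q hq h1 h2 => by
    have h3 : p ≤ q := Nat.find_min' hex ⟨hq, h1, h2⟩
    have h4 := h p q hp.1 hq hp.2.1
    exact Finset.mem_Icc.2 ⟨h3, by omega⟩)
  rw [card_Icc, show p + 2 + 1 - p = 3 by omega] at h1
  have h2 := Nat.four_pow_lt_mul_centralBinom n (by omega)
  have h3 := main_ineq hn
  have h4 := Nat.mul_le_mul_left n h1
  omega

/-- For `m ≥ 17` there are primes `p`, `q` with `m < 2 p` and `p + 3 ≤ q ≤ m`. -/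
theorem exists_primes {m : ℕ} (hm : 17 ≤ m) :
    ∃ p q : ℕ, p.Prime ∧ q.Prime ∧ m < 2 * p ∧ p + 3 ≤ q ∧ q ≤ m := by
  by_cases h1 : m ≤ 25
  · exact ⟨13, 17, by norm_num, by norm_num, by omega, by omega, by omega⟩
  by_cases h2 : m ≤ 37
  · exact ⟨19, 23, by norm_num, by norm_num, by omega, by omega, by omega⟩
  by_cases h3 : m ≤ 61
  · exact ⟨31, 37, by norm_num, by norm_num, by omega, by omega, by omega⟩
  by_cases h4 : m ≤ 105
  · exact ⟨53, 59, by norm_num, by norm_num, by omega, by omega, by omega⟩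
  by_cases h5 : m ≤ 193
  · exact ⟨97, 101, by norm_num, by norm_num, by omega, by omega, by omega⟩
  by_cases h6 : m ≤ 361
  · exact ⟨181, 191, by norm_num, by norm_num, by omega, by omega, by omega⟩
  by_cases h7 : m ≤ 697
  · exact ⟨349, 353, by norm_num, by norm_num, by omega, by omega, by omega⟩
  by_cases h8 : m ≤ 1365
  · exact ⟨683, 691, by norm_num, by norm_num, by omega, by omega, by omega⟩
  by_cases h9 : m ≤ 2641
  · exact ⟨1321, 1327, by norm_num, by norm_num, by omega, by omega, by omega⟩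
  obtain ⟨p, q, hp, hq, h1, h2, h3⟩ := exists_primes_large (n := m / 2) (by omega)
  exact ⟨p, q, hp, hq, by omega, h2, by omega⟩

end Cfsg.Agent.NT.TwoPrimes
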